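import Mathlib
import Cfsg.Agent.H93.CI.Table
import Cfsg.Agent.H93.ON.Iv
import Cfsg.Agent.H93.ON.Tab.PA
import Cfsg.Agent.H93.ON.Tab.L0
import Cfsg.Agent.H93.ON.Tab.L1
import Cfsg.Agent.H93.ON.Tab.L2
import Cfsg.Agent.H93.ON.Tab.L3
import Cfsg.Agent.H93.ON.Tab.L4
import Cfsg.Agent.H93.ON.Tab.L5
import Cfsg.Agent.H93.ON.Tab.L6
import Cfsg.Agent.H93.ON.Tab.L7

/-!
A checked coset table (generated data).
-/

set_option autoImplicit false
set_option maxRecDepth 100000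
set_option linter.all false
set_option Elab.async false

namespace H93
namespace ON
namespace Tab

open CosetI

noncomputable section

def sel0 (q : ℕ) : ℕ := (Bool.rec (motive := fun _ => ℕ) (Bool.rec (motive := fun _ => ℕ) (Bool.rec (motive := fun _ => ℕ) blk7 blk6 (Nat.blt q 7)) (Bool.rec (motive := fun _ => ℕ) blk5 blk4 (Nat.blt q 5)) (Nat.blt q 6)) (Bool.rec (motive := fun _ => ℕ) (Bool.rec (motive := fun _ => ℕ) blk3 blk2 (Nat.blt q 3)) (Bool.rec (motive := fun _ => ℕ) blk1 blk0 (Nat.blt q 1)) (Nat.blt q 2)) (Nat.blt q 4))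
def sel1 (q : ℕ) : ℕ := (Bool.rec (motive := fun _ => ℕ) (Bool.rec (motive := fun _ => ℕ) (Bool.rec (motive := fun _ => ℕ) blk15 blk14 (Nat.blt q 15)) (Bool.rec (motive := fun _ => ℕ) blk13 blk12 (Nat.blt q 13)) (Nat.blt q 14)) (Bool.rec (motive := fun _ => ℕ) (Bool.rec (motive := fun _ => ℕ) blk11 blk10 (Nat.blt q 11)) (Bool.rec (motive := fun _ => ℕ) blk9 blk8 (Nat.blt q 9)) (Nat.blt q 10)) (Nat.blt q 12))
def sel2 (q : ℕ) : ℕ := (Bool.rec (motive := fun _ => ℕ) (Bool.rec (motive := fun _ => ℕ) (Bool.rec (motive := fun _ => ℕ) blk23 blk22 (Nat.blt q 23)) (Bool.rec (motive := fun _ => ℕ) blk21 blk20 (Nat.blt q 21)) (Nat.blt q 22)) (Bool.rec (motive := fun _ => ℕ) (Bool.rec (motive := fun _ => ℕ) blk19 blk18 (Nat.blt q 19)) (Bool.rec (motive := fun _ => ℕ) blk17 blk16 (Nat.blt q 17)) (Nat.blt q 18)) (Nat.blt q 20))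
def sel3 (q : ℕ) : ℕ := (Bool.rec (motive := fun _ => ℕ) (Bool.rec (motive := fun _ => ℕ) (Bool.rec (motive := fun _ => ℕ) blk31 blk30 (Nat.blt q 31)) (Bool.rec (motive := fun _ => ℕ) blk29 blk28 (Nat.blt q 29)) (Nat.blt q 30)) (Bool.rec (motive := fun _ => ℕ) (Bool.rec (motive := fun _ => ℕ) blk27 blk26 (Nat.blt q 27)) (Bool.rec (motive := fun _ => ℕ) blk25 blk24 (Nat.blt q 25)) (Nat.blt q 26)) (Nat.blt q 28))
def sel4 (q : ℕ) : ℕ := (Bool.rec (motive := fun _ => ℕ) (Bool.rec (motive := fun _ => ℕ) (Bool.rec (motive := fun _ => ℕ) blk39 blk38 (Nat.blt q 39)) (Bool.rec (motive := fun _ => ℕ) blk37 blk36 (Nat.blt q 37)) (Nat.blt q 38)) (Bool.rec (motive := fun _ => ℕ) (Bool.rec (motive := fun _ => ℕ) blk35 blk34 (Nat.blt q 35)) (Bool.rec (motive := fun _ => ℕ) blk33 blk32 (Nat.blt q 33)) (Nat.blt q 34)) (Nat.blt q 36))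
def sel5 (q : ℕ) : ℕ := (Bool.rec (motive := fun _ => ℕ) (Bool.rec (motive := fun _ => ℕ) (Bool.rec (motive := fun _ => ℕ) blk47 blk46 (Nat.blt q 47)) (Bool.rec (motive := fun _ => ℕ) blk45 blk44 (Nat.blt q 45)) (Nat.blt q 46)) (Bool.rec (motive := fun _ => ℕ) (Bool.rec (motive := fun _ => ℕ) blk43 blk42 (Nat.blt q 43)) (Bool.rec (motive := fun _ => ℕ) blk41 blk40 (Nat.blt q 41)) (Nat.blt q 42)) (Nat.blt q 44))
def sel6 (q : ℕ) : ℕ := (Bool.rec (motive := fun _ => ℕ) (Bool.rec (motive := fun _ => ℕ) (Bool.rec (motive := fun _ => ℕ) blk55 blk54 (Nat.blt q 55)) (Bool.rec (motive := fun _ => ℕ) blk53 blk52 (Nat.blt q 53)) (Nat.blt q 54)) (Bool.rec (motive := fun _ => ℕ) (Bool.rec (motive := fun _ => ℕ) blk51 blk50 (Nat.blt q 51)) (Bool.rec (motive := fun _ => ℕ) blk49 blk48 (Nat.blt q 49)) (Nat.blt q 50)) (Nat.blt q 52))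
def sel7 (q : ℕ) : ℕ := (Bool.rec (motive := fun _ => ℕ) (Bool.rec (motive := fun _ => ℕ) (Bool.rec (motive := fun _ => ℕ) blk63 blk62 (Nat.blt q 63)) (Bool.rec (motive := fun _ => ℕ) blk61 blk60 (Nat.blt q 61)) (Nat.blt q 62)) (Bool.rec (motive := fun _ => ℕ) (Bool.rec (motive := fun _ => ℕ) blk59 blk58 (Nat.blt q 59)) (Bool.rec (motive := fun _ => ℕ) blk57 blk56 (Nat.blt q 57)) (Nat.blt q 58)) (Nat.blt q 60))
def sel8 (q : ℕ) : ℕ := (Bool.rec (motive := fun _ => ℕ) (Bool.rec (motive := fun _ => ℕ) (Bool.rec (motive := fun _ => ℕ) (sel7 q) (sel6 q) (Nat.blt q 56)) (Bool.rec (motive := fun _ => ℕ) (sel5 q) (sel4 q) (Nat.blt q 40)) (Nat.blt q 48)) (Bool.rec (motive := fun _ => ℕ) (Bool.rec (motive := fun _ => ℕ) (sel3 q) (sel2 q) (Nat.blt q 24)) (Bool.rec (motive := fun _ => ℕ) (sel1 q) (sel0 q) (Nat.blt q 8)) (Nat.blt q 16)) (Nat.blt q 32))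
def sel9 (q : ℕ) : ℕ := (Bool.rec (motive := fun _ => ℕ) (Bool.rec (motive := fun _ => ℕ) (Bool.rec (motive := fun _ => ℕ) blk71 blk70 (Nat.blt q 71)) (Bool.rec (motive := fun _ => ℕ) blk69 blk68 (Nat.blt q 69)) (Nat.blt q 70)) (Bool.rec (motive := fun _ => ℕ) (Bool.rec (motive := fun _ => ℕ) blk67 blk66 (Nat.blt q 67)) (Bool.rec (motive := fun _ => ℕ) blk65 blk64 (Nat.blt q 65)) (Nat.blt q 66)) (Nat.blt q 68))
def sel10 (q : ℕ) : ℕ := (Bool.rec (motive := fun _ => ℕ) (Bool.rec (motive := fun _ => ℕ) (Bool.rec (motive := fun _ => ℕ) blk79 blk78 (Nat.blt q 79)) (Bool.rec (motive := fun _ => ℕ) blk77 blk76 (Nat.blt q 77)) (Nat.blt q 78)) (Bool.rec (motive := fun _ => ℕ) (Bool.rec (motive := fun _ => ℕ) blk75 blk74 (Nat.blt q 75)) (Bool.rec (motive := fun _ => ℕ) blk73 blk72 (Nat.blt q 73)) (Nat.blt q 74)) (Nat.blt q 76))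
def sel11 (q : ℕ) : ℕ := (Bool.rec (motive := fun _ => ℕ) (Bool.rec (motive := fun _ => ℕ) (Bool.rec (motive := fun _ => ℕ) blk87 blk86 (Nat.blt q 87)) (Bool.rec (motive := fun _ => ℕ) blk85 blk84 (Nat.blt q 85)) (Nat.blt q 86)) (Bool.rec (motive := fun _ => ℕ) (Bool.rec (motive := fun _ => ℕ) blk83 blk82 (Nat.blt q 83)) (Bool.rec (motive := fun _ => ℕ) blk81 blk80 (Nat.blt q 81)) (Nat.blt q 82)) (Nat.blt q 84))
def sel12 (q : ℕ) : ℕ := (Bool.rec (motive := fun _ => ℕ) (Bool.rec (motive := fun _ => ℕ) (Bool.rec (motive := fun _ => ℕ) blk95 blk94 (Nat.blt q 95)) (Bool.rec (motive := fun _ => ℕ) blk93 blk92 (Nat.blt q 93)) (Nat.blt q 94)) (Bool.rec (motive := fun _ => ℕ) (Bool.rec (motive := fun _ => ℕ) blk91 blk90 (Nat.blt q 91)) (Bool.rec (motive := fun _ => ℕ) blk89 blk88 (Nat.blt q 89)) (Nat.blt q 90)) (Nat.blt q 92))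
def sel13 (q : ℕ) : ℕ := (Bool.rec (motive := fun _ => ℕ) (Bool.rec (motive := fun _ => ℕ) (Bool.rec (motive := fun _ => ℕ) blk103 blk102 (Nat.blt q 103)) (Bool.rec (motive := fun _ => ℕ) blk101 blk100 (Nat.blt q 101)) (Nat.blt q 102)) (Bool.rec (motive := fun _ => ℕ) (Bool.rec (motive := fun _ => ℕ) blk99 blk98 (Nat.blt q 99)) (Bool.rec (motive := fun _ => ℕ) blk97 blk96 (Nat.blt q 97)) (Nat.blt q 98)) (Nat.blt q 100))
def sel14 (q : ℕ) : ℕ := (Bool.rec (motive := fun _ => ℕ) (Bool.rec (motive := fun _ => ℕ) (Bool.rec (motive := fun _ => ℕ) blk111 blk110 (Nat.blt q 111)) (Bool.rec (motive := fun _ => ℕ) blk109 blk108 (Nat.blt q 109)) (Nat.blt q 110)) (Bool.rec (motive := fun _ => ℕ) (Bool.rec (motive := fun _ => ℕ) blk107 blk106 (Nat.blt q 107)) (Bool.rec (motive := fun _ => ℕ) blk105 blk104 (Nat.blt q 105)) (Nat.blt q 106)) (Nat.blt q 108))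
def sel15 (q : ℕ) : ℕ := (Bool.rec (motive := fun _ => ℕ) (Bool.rec (motive := fun _ => ℕ) (Bool.rec (motive := fun _ => ℕ) blk119 blk118 (Nat.blt q 119)) (Bool.rec (motive := fun _ => ℕ) blk117 blk116 (Nat.blt q 117)) (Nat.blt q 118)) (Bool.rec (motive := fun _ => ℕ) (Bool.rec (motive := fun _ => ℕ) blk115 blk114 (Nat.blt q 115)) (Bool.rec (motive := fun _ => ℕ) blk113 blk112 (Nat.blt q 113)) (Nat.blt q 114)) (Nat.blt q 116))
def sel16 (q : ℕ) : ℕ := (Bool.rec (motive := fun _ => ℕ) (Bool.rec (motive := fun _ => ℕ) (Bool.rec (motive := fun _ => ℕ) blk127 blk126 (Nat.blt q 127)) (Bool.rec (motive := fun _ => ℕ) blk125 blk124 (Nat.blt q 125)) (Nat.blt q 126)) (Bool.rec (motive := fun _ => ℕ) (Bool.rec (motive := fun _ => ℕ) blk123 blk122 (Nat.blt q 123)) (Bool.rec (motive := fun _ => ℕ) blk121 blk120 (Nat.blt q 121)) (Nat.blt q 122)) (Nat.blt q 124))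
def sel17 (q : ℕ) : ℕ := (Bool.rec (motive := fun _ => ℕ) (Bool.rec (motive := fun _ => ℕ) (Bool.rec (motive := fun _ => ℕ) (sel16 q) (sel15 q) (Nat.blt q 120)) (Bool.rec (motive := fun _ => ℕ) (sel14 q) (sel13 q) (Nat.blt q 104)) (Nat.blt q 112)) (Bool.rec (motive := fun _ => ℕ) (Bool.rec (motive := fun _ => ℕ) (sel12 q) (sel11 q) (Nat.blt q 88)) (Bool.rec (motive := fun _ => ℕ) (sel10 q) (sel9 q) (Nat.blt q 72)) (Nat.blt q 80)) (Nat.blt q 96))
def sel18 (q : ℕ) : ℕ := (Bool.rec (motive := fun _ => ℕ) (Bool.rec (motive := fun _ => ℕ) (Bool.rec (motive := fun _ => ℕ) blk135 blk134 (Nat.blt q 135)) (Bool.rec (motive := fun _ => ℕ) blk133 blk132 (Nat.blt q 133)) (Nat.blt q 134)) (Bool.rec (motive := fun _ => ℕ) (Bool.rec (motive := fun _ => ℕ) blk131 blk130 (Nat.blt q 131)) (Bool.rec (motive := fun _ => ℕ) blk129 blk128 (Nat.blt q 129)) (Nat.blt q 130)) (Nat.blt q 132))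
def sel19 (q : ℕ) : ℕ := (Bool.rec (motive := fun _ => ℕ) (Bool.rec (motive := fun _ => ℕ) (Bool.rec (motive := fun _ => ℕ) blk143 blk142 (Nat.blt q 143)) (Bool.rec (motive := fun _ => ℕ) blk141 blk140 (Nat.blt q 141)) (Nat.blt q 142)) (Bool.rec (motive := fun _ => ℕ) (Bool.rec (motive := fun _ => ℕ) blk139 blk138 (Nat.blt q 139)) (Bool.rec (motive := fun _ => ℕ) blk137 blk136 (Nat.blt q 137)) (Nat.blt q 138)) (Nat.blt q 140))
def sel20 (q : ℕ) : ℕ := (Bool.rec (motive := fun _ => ℕ) (Bool.rec (motive := fun _ => ℕ) (Bool.rec (motive := fun _ => ℕ) blk151 blk150 (Nat.blt q 151)) (Bool.rec (motive := fun _ => ℕ) blk149 blk148 (Nat.blt q 149)) (Nat.blt q 150)) (Bool.rec (motive := fun _ => ℕ) (Bool.rec (motive := fun _ => ℕ) blk147 blk146 (Nat.blt q 147)) (Bool.rec (motive := fun _ => ℕ) blk145 blk144 (Nat.blt q 145)) (Nat.blt q 146)) (Nat.blt q 148))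
def sel21 (q : ℕ) : ℕ := (Bool.rec (motive := fun _ => ℕ) (Bool.rec (motive := fun _ => ℕ) (Bool.rec (motive := fun _ => ℕ) blk159 blk158 (Nat.blt q 159)) (Bool.rec (motive := fun _ => ℕ) blk157 blk156 (Nat.blt q 157)) (Nat.blt q 158)) (Bool.rec (motive := fun _ => ℕ) (Bool.rec (motive := fun _ => ℕ) blk155 blk154 (Nat.blt q 155)) (Bool.rec (motive := fun _ => ℕ) blk153 blk152 (Nat.blt q 153)) (Nat.blt q 154)) (Nat.blt q 156))
def sel22 (q : ℕ) : ℕ := (Bool.rec (motive := fun _ => ℕ) (Bool.rec (motive := fun _ => ℕ) (Bool.rec (motive := fun _ => ℕ) blk167 blk166 (Nat.blt q 167)) (Bool.rec (motive := fun _ => ℕ) blk165 blk164 (Nat.blt q 165)) (Nat.blt q 166)) (Bool.rec (motive := fun _ => ℕ) (Bool.rec (motive := fun _ => ℕ) blk163 blk162 (Nat.blt q 163)) (Bool.rec (motive := fun _ => ℕ) blk161 blk160 (Nat.blt q 161)) (Nat.blt q 162)) (Nat.blt q 164))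
def sel23 (q : ℕ) : ℕ := (Bool.rec (motive := fun _ => ℕ) (Bool.rec (motive := fun _ => ℕ) (Bool.rec (motive := fun _ => ℕ) blk175 blk174 (Nat.blt q 175)) (Bool.rec (motive := fun _ => ℕ) blk173 blk172 (Nat.blt q 173)) (Nat.blt q 174)) (Bool.rec (motive := fun _ => ℕ) (Bool.rec (motive := fun _ => ℕ) blk171 blk170 (Nat.blt q 171)) (Bool.rec (motive := fun _ => ℕ) blk169 blk168 (Nat.blt q 169)) (Nat.blt q 170)) (Nat.blt q 172))
def sel24 (q : ℕ) : ℕ := (Bool.rec (motive := fun _ => ℕ) (Bool.rec (motive := fun _ => ℕ) (Bool.rec (motive := fun _ => ℕ) blk183 blk182 (Nat.blt q 183)) (Bool.rec (motive := fun _ => ℕ) blk181 blk180 (Nat.blt q 181)) (Nat.blt q 182)) (Bool.rec (motive := fun _ => ℕ) (Bool.rec (motive := fun _ => ℕ) blk179 blk178 (Nat.blt q 179)) (Bool.rec (motive := fun _ => ℕ) blk177 blk176 (Nat.blt q 177)) (Nat.blt q 178)) (Nat.blt q 180))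
def sel25 (q : ℕ) : ℕ := (Bool.rec (motive := fun _ => ℕ) (Bool.rec (motive := fun _ => ℕ) (Bool.rec (motive := fun _ => ℕ) blk191 blk190 (Nat.blt q 191)) (Bool.rec (motive := fun _ => ℕ) blk189 blk188 (Nat.blt q 189)) (Nat.blt q 190)) (Bool.rec (motive := fun _ => ℕ) (Bool.rec (motive := fun _ => ℕ) blk187 blk186 (Nat.blt q 187)) (Bool.rec (motive := fun _ => ℕ) blk185 blk184 (Nat.blt q 185)) (Nat.blt q 186)) (Nat.blt q 188))
def sel26 (q : ℕ) : ℕ := (Bool.rec (motive := fun _ => ℕ) (Bool.rec (motive := fun _ => ℕ) (Bool.rec (motive := fun _ => ℕ) (sel25 q) (sel24 q) (Nat.blt q 184)) (Bool.rec (motive := fun _ => ℕ) (sel23 q) (sel22 q) (Nat.blt q 168)) (Nat.blt q 176)) (Bool.rec (motive := fun _ => ℕ) (Bool.rec (motive := fun _ => ℕ) (sel21 q) (sel20 q) (Nat.blt q 152)) (Bool.rec (motive := fun _ => ℕ) (sel19 q) (sel18 q) (Nat.blt q 136)) (Nat.blt q 144)) (Nat.blt q 160))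
def sel27 (q : ℕ) : ℕ := (Bool.rec (motive := fun _ => ℕ) (Bool.rec (motive := fun _ => ℕ) (Bool.rec (motive := fun _ => ℕ) blk199 blk198 (Nat.blt q 199)) (Bool.rec (motive := fun _ => ℕ) blk197 blk196 (Nat.blt q 197)) (Nat.blt q 198)) (Bool.rec (motive := fun _ => ℕ) (Bool.rec (motive := fun _ => ℕ) blk195 blk194 (Nat.blt q 195)) (Bool.rec (motive := fun _ => ℕ) blk193 blk192 (Nat.blt q 193)) (Nat.blt q 194)) (Nat.blt q 196))
def sel28 (q : ℕ) : ℕ := (Bool.rec (motive := fun _ => ℕ) (Bool.rec (motive := fun _ => ℕ) (Bool.rec (motive := fun _ => ℕ) blk207 blk206 (Nat.blt q 207)) (Bool.rec (motive := fun _ => ℕ) blk205 blk204 (Nat.blt q 205)) (Nat.blt q 206)) (Bool.rec (motive := fun _ => ℕ) (Bool.rec (motive := fun _ => ℕ) blk203 blk202 (Nat.blt q 203)) (Bool.rec (motive := fun _ => ℕ) blk201 blk200 (Nat.blt q 201)) (Nat.blt q 202)) (Nat.blt q 204))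
def sel29 (q : ℕ) : ℕ := (Bool.rec (motive := fun _ => ℕ) (Bool.rec (motive := fun _ => ℕ) (Bool.rec (motive := fun _ => ℕ) blk215 blk214 (Nat.blt q 215)) (Bool.rec (motive := fun _ => ℕ) blk213 blk212 (Nat.blt q 213)) (Nat.blt q 214)) (Bool.rec (motive := fun _ => ℕ) (Bool.rec (motive := fun _ => ℕ) blk211 blk210 (Nat.blt q 211)) (Bool.rec (motive := fun _ => ℕ) blk209 blk208 (Nat.blt q 209)) (Nat.blt q 210)) (Nat.blt q 212))
def sel30 (q : ℕ) : ℕ := (Bool.rec (motive := fun _ => ℕ) (Bool.rec (motive := fun _ => ℕ) (Bool.rec (motive := fun _ => ℕ) blk223 blk222 (Nat.blt q 223)) (Bool.rec (motive := fun _ => ℕ) blk221 blk220 (Nat.blt q 221)) (Nat.blt q 222)) (Bool.rec (motive := fun _ => ℕ) (Bool.rec (motive := fun _ => ℕ) blk219 blk218 (Nat.blt q 219)) (Bool.rec (motive := fun _ => ℕ) blk217 blk216 (Nat.blt q 217)) (Nat.blt q 218)) (Nat.blt q 220))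
def sel31 (q : ℕ) : ℕ := (Bool.rec (motive := fun _ => ℕ) (Bool.rec (motive := fun _ => ℕ) (Bool.rec (motive := fun _ => ℕ) blk231 blk230 (Nat.blt q 231)) (Bool.rec (motive := fun _ => ℕ) blk229 blk228 (Nat.blt q 229)) (Nat.blt q 230)) (Bool.rec (motive := fun _ => ℕ) (Bool.rec (motive := fun _ => ℕ) blk227 blk226 (Nat.blt q 227)) (Bool.rec (motive := fun _ => ℕ) blk225 blk224 (Nat.blt q 225)) (Nat.blt q 226)) (Nat.blt q 228))
def sel32 (q : ℕ) : ℕ := (Bool.rec (motive := fun _ => ℕ) (Bool.rec (motive := fun _ => ℕ) (Bool.rec (motive := fun _ => ℕ) blk239 blk238 (Nat.blt q 239)) (Bool.rec (motive := fun _ => ℕ) blk237 blk236 (Nat.blt q 237)) (Nat.blt q 238)) (Bool.rec (motive := fun _ => ℕ) (Bool.rec (motive := fun _ => ℕ) blk235 blk234 (Nat.blt q 235)) (Bool.rec (motive := fun _ => ℕ) blk233 blk232 (Nat.blt q 233)) (Nat.blt q 234)) (Nat.blt q 236))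
def sel33 (q : ℕ) : ℕ := (Bool.rec (motive := fun _ => ℕ) (Bool.rec (motive := fun _ => ℕ) (Bool.rec (motive := fun _ => ℕ) blk247 blk246 (Nat.blt q 247)) (Bool.rec (motive := fun _ => ℕ) blk245 blk244 (Nat.blt q 245)) (Nat.blt q 246)) (Bool.rec (motive := fun _ => ℕ) (Bool.rec (motive := fun _ => ℕ) blk243 blk242 (Nat.blt q 243)) (Bool.rec (motive := fun _ => ℕ) blk241 blk240 (Nat.blt q 241)) (Nat.blt q 242)) (Nat.blt q 244))
def sel34 (q : ℕ) : ℕ := (Bool.rec (motive := fun _ => ℕ) (Bool.rec (motive := fun _ => ℕ) (Bool.rec (motive := fun _ => ℕ) blk255 blk254 (Nat.blt q 255)) (Bool.rec (motive := fun _ => ℕ) blk253 blk252 (Nat.blt q 253)) (Nat.blt q 254)) (Bool.rec (motive := fun _ => ℕ) (Bool.rec (motive := fun _ => ℕ) blk251 blk250 (Nat.blt q 251)) (Bool.rec (motive := fun _ => ℕ) blk249 blk248 (Nat.blt q 249)) (Nat.blt q 250)) (Nat.blt q 252))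
def sel35 (q : ℕ) : ℕ := (Bool.rec (motive := fun _ => ℕ) (Bool.rec (motive := fun _ => ℕ) (Bool.rec (motive := fun _ => ℕ) (sel34 q) (sel33 q) (Nat.blt q 248)) (Bool.rec (motive := fun _ => ℕ) (sel32 q) (sel31 q) (Nat.blt q 232)) (Nat.blt q 240)) (Bool.rec (motive := fun _ => ℕ) (Bool.rec (motive := fun _ => ℕ) (sel30 q) (sel29 q) (Nat.blt q 216)) (Bool.rec (motive := fun _ => ℕ) (sel28 q) (sel27 q) (Nat.blt q 200)) (Nat.blt q 208)) (Nat.blt q 224))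
def sel36 (q : ℕ) : ℕ := (Bool.rec (motive := fun _ => ℕ) (Bool.rec (motive := fun _ => ℕ) (Bool.rec (motive := fun _ => ℕ) blk263 blk262 (Nat.blt q 263)) (Bool.rec (motive := fun _ => ℕ) blk261 blk260 (Nat.blt q 261)) (Nat.blt q 262)) (Bool.rec (motive := fun _ => ℕ) (Bool.rec (motive := fun _ => ℕ) blk259 blk258 (Nat.blt q 259)) (Bool.rec (motive := fun _ => ℕ) blk257 blk256 (Nat.blt q 257)) (Nat.blt q 258)) (Nat.blt q 260))
def sel37 (q : ℕ) : ℕ := (Bool.rec (motive := fun _ => ℕ) (Bool.rec (motive := fun _ => ℕ) (Bool.rec (motive := fun _ => ℕ) blk271 blk270 (Nat.blt q 271)) (Bool.rec (motive := fun _ => ℕ) blk269 blk268 (Nat.blt q 269)) (Nat.blt q 270)) (Bool.rec (motive := fun _ => ℕ) (Bool.rec (motive := fun _ => ℕ) blk267 blk266 (Nat.blt q 267)) (Bool.rec (motive := fun _ => ℕ) blk265 blk264 (Nat.blt q 265)) (Nat.blt q 266)) (Nat.blt q 268))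
def sel38 (q : ℕ) : ℕ := (Bool.rec (motive := fun _ => ℕ) (Bool.rec (motive := fun _ => ℕ) (Bool.rec (motive := fun _ => ℕ) blk279 blk278 (Nat.blt q 279)) (Bool.rec (motive := fun _ => ℕ) blk277 blk276 (Nat.blt q 277)) (Nat.blt q 278)) (Bool.rec (motive := fun _ => ℕ) (Bool.rec (motive := fun _ => ℕ) blk275 blk274 (Nat.blt q 275)) (Bool.rec (motive := fun _ => ℕ) blk273 blk272 (Nat.blt q 273)) (Nat.blt q 274)) (Nat.blt q 276))
def sel39 (q : ℕ) : ℕ := (Bool.rec (motive := fun _ => ℕ) (Bool.rec (motive := fun _ => ℕ) (Bool.rec (motive := fun _ => ℕ) blk287 blk286 (Nat.blt q 287)) (Bool.rec (motive := fun _ => ℕ) blk285 blk284 (Nat.blt q 285)) (Nat.blt q 286)) (Bool.rec (motive := fun _ => ℕ) (Bool.rec (motive := fun _ => ℕ) blk283 blk282 (Nat.blt q 283)) (Bool.rec (motive := fun _ => ℕ) blk281 blk280 (Nat.blt q 281)) (Nat.blt q 282)) (Nat.blt q 284))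
def sel40 (q : ℕ) : ℕ := (Bool.rec (motive := fun _ => ℕ) (Bool.rec (motive := fun _ => ℕ) (Bool.rec (motive := fun _ => ℕ) blk295 blk294 (Nat.blt q 295)) (Bool.rec (motive := fun _ => ℕ) blk293 blk292 (Nat.blt q 293)) (Nat.blt q 294)) (Bool.rec (motive := fun _ => ℕ) (Bool.rec (motive := fun _ => ℕ) blk291 blk290 (Nat.blt q 291)) (Bool.rec (motive := fun _ => ℕ) blk289 blk288 (Nat.blt q 289)) (Nat.blt q 290)) (Nat.blt q 292))
def sel41 (q : ℕ) : ℕ := (Bool.rec (motive := fun _ => ℕ) (Bool.rec (motive := fun _ => ℕ) (Bool.rec (motive := fun _ => ℕ) blk303 blk302 (Nat.blt q 303)) (Bool.rec (motive := fun _ => ℕ) blk301 blk300 (Nat.blt q 301)) (Nat.blt q 302)) (Bool.rec (motive := fun _ => ℕ) (Bool.rec (motive := fun _ => ℕ) blk299 blk298 (Nat.blt q 299)) (Bool.rec (motive := fun _ => ℕ) blk297 blk296 (Nat.blt q 297)) (Nat.blt q 298)) (Nat.blt q 300))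
def sel42 (q : ℕ) : ℕ := (Bool.rec (motive := fun _ => ℕ) (Bool.rec (motive := fun _ => ℕ) (Bool.rec (motive := fun _ => ℕ) blk311 blk310 (Nat.blt q 311)) (Bool.rec (motive := fun _ => ℕ) blk309 blk308 (Nat.blt q 309)) (Nat.blt q 310)) (Bool.rec (motive := fun _ => ℕ) (Bool.rec (motive := fun _ => ℕ) blk307 blk306 (Nat.blt q 307)) (Bool.rec (motive := fun _ => ℕ) blk305 blk304 (Nat.blt q 305)) (Nat.blt q 306)) (Nat.blt q 308))
def sel43 (q : ℕ) : ℕ := (Bool.rec (motive := fun _ => ℕ) (Bool.rec (motive := fun _ => ℕ) (Bool.rec (motive := fun _ => ℕ) blk319 blk318 (Nat.blt q 319)) (Bool.rec (motive := fun _ => ℕ) blk317 blk316 (Nat.blt q 317)) (Nat.blt q 318)) (Bool.rec (motive := fun _ => ℕ) (Bool.rec (motive := fun _ => ℕ) blk315 blk314 (Nat.blt q 315)) (Bool.rec (motive := fun _ => ℕ) blk313 blk312 (Nat.blt q 313)) (Nat.blt q 314)) (Nat.blt q 316))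
def sel44 (q : ℕ) : ℕ := (Bool.rec (motive := fun _ => ℕ) (Bool.rec (motive := fun _ => ℕ) (Bool.rec (motive := fun _ => ℕ) (sel43 q) (sel42 q) (Nat.blt q 312)) (Bool.rec (motive := fun _ => ℕ) (sel41 q) (sel40 q) (Nat.blt q 296)) (Nat.blt q 304)) (Bool.rec (motive := fun _ => ℕ) (Bool.rec (motive := fun _ => ℕ) (sel39 q) (sel38 q) (Nat.blt q 280)) (Bool.rec (motive := fun _ => ℕ) (sel37 q) (sel36 q) (Nat.blt q 264)) (Nat.blt q 272)) (Nat.blt q 288))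
def sel45 (q : ℕ) : ℕ := (Bool.rec (motive := fun _ => ℕ) (Bool.rec (motive := fun _ => ℕ) (Bool.rec (motive := fun _ => ℕ) blk327 blk326 (Nat.blt q 327)) (Bool.rec (motive := fun _ => ℕ) blk325 blk324 (Nat.blt q 325)) (Nat.blt q 326)) (Bool.rec (motive := fun _ => ℕ) (Bool.rec (motive := fun _ => ℕ) blk323 blk322 (Nat.blt q 323)) (Bool.rec (motive := fun _ => ℕ) blk321 blk320 (Nat.blt q 321)) (Nat.blt q 322)) (Nat.blt q 324))
def sel46 (q : ℕ) : ℕ := (Bool.rec (motive := fun _ => ℕ) (Bool.rec (motive := fun _ => ℕ) (Bool.rec (motive := fun _ => ℕ) blk335 blk334 (Nat.blt q 335)) (Bool.rec (motive := fun _ => ℕ) blk333 blk332 (Nat.blt q 333)) (Nat.blt q 334)) (Bool.rec (motive := fun _ => ℕ) (Bool.rec (motive := fun _ => ℕ) blk331 blk330 (Nat.blt q 331)) (Bool.rec (motive := fun _ => ℕ) blk329 blk328 (Nat.blt q 329)) (Nat.blt q 330)) (Nat.blt q 332))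
def sel47 (q : ℕ) : ℕ := (Bool.rec (motive := fun _ => ℕ) (Bool.rec (motive := fun _ => ℕ) (Bool.rec (motive := fun _ => ℕ) blk343 blk342 (Nat.blt q 343)) (Bool.rec (motive := fun _ => ℕ) blk341 blk340 (Nat.blt q 341)) (Nat.blt q 342)) (Bool.rec (motive := fun _ => ℕ) (Bool.rec (motive := fun _ => ℕ) blk339 blk338 (Nat.blt q 339)) (Bool.rec (motive := fun _ => ℕ) blk337 blk336 (Nat.blt q 337)) (Nat.blt q 338)) (Nat.blt q 340))
def sel48 (q : ℕ) : ℕ := (Bool.rec (motive := fun _ => ℕ) (Bool.rec (motive := fun _ => ℕ) (Bool.rec (motive := fun _ => ℕ) blk351 blk350 (Nat.blt q 351)) (Bool.rec (motive := fun _ => ℕ) blk349 blk348 (Nat.blt q 349)) (Nat.blt q 350)) (Bool.rec (motive := fun _ => ℕ) (Bool.rec (motive := fun _ => ℕ) blk347 blk346 (Nat.blt q 347)) (Bool.rec (motive := fun _ => ℕ) blk345 blk344 (Nat.blt q 345)) (Nat.blt q 346)) (Nat.blt q 348))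
def sel49 (q : ℕ) : ℕ := (Bool.rec (motive := fun _ => ℕ) (Bool.rec (motive := fun _ => ℕ) (Bool.rec (motive := fun _ => ℕ) blk359 blk358 (Nat.blt q 359)) (Bool.rec (motive := fun _ => ℕ) blk357 blk356 (Nat.blt q 357)) (Nat.blt q 358)) (Bool.rec (motive := fun _ => ℕ) (Bool.rec (motive := fun _ => ℕ) blk355 blk354 (Nat.blt q 355)) (Bool.rec (motive := fun _ => ℕ) blk353 blk352 (Nat.blt q 353)) (Nat.blt q 354)) (Nat.blt q 356))
def sel50 (q : ℕ) : ℕ := (Bool.rec (motive := fun _ => ℕ) (Bool.rec (motive := fun _ => ℕ) (Bool.rec (motive := fun _ => ℕ) blk367 blk366 (Nat.blt q 367)) (Bool.rec (motive := fun _ => ℕ) blk365 blk364 (Nat.blt q 365)) (Nat.blt q 366)) (Bool.rec (motive := fun _ => ℕ) (Bool.rec (motive := fun _ => ℕ) blk363 blk362 (Nat.blt q 363)) (Bool.rec (motive := fun _ => ℕ) blk361 blk360 (Nat.blt q 361)) (Nat.blt q 362)) (Nat.blt q 364))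
def sel51 (q : ℕ) : ℕ := (Bool.rec (motive := fun _ => ℕ) (Bool.rec (motive := fun _ => ℕ) (Bool.rec (motive := fun _ => ℕ) blk375 blk374 (Nat.blt q 375)) (Bool.rec (motive := fun _ => ℕ) blk373 blk372 (Nat.blt q 373)) (Nat.blt q 374)) (Bool.rec (motive := fun _ => ℕ) (Bool.rec (motive := fun _ => ℕ) blk371 blk370 (Nat.blt q 371)) (Bool.rec (motive := fun _ => ℕ) blk369 blk368 (Nat.blt q 369)) (Nat.blt q 370)) (Nat.blt q 372))
def sel52 (q : ℕ) : ℕ := (Bool.rec (motive := fun _ => ℕ) (Bool.rec (motive := fun _ => ℕ) (Bool.rec (motive := fun _ => ℕ) blk383 blk382 (Nat.blt q 383)) (Bool.rec (motive := fun _ => ℕ) blk381 blk380 (Nat.blt q 381)) (Nat.blt q 382)) (Bool.rec (motive := fun _ => ℕ) (Bool.rec (motive := fun _ => ℕ) blk379 blk378 (Nat.blt q 379)) (Bool.rec (motive := fun _ => ℕ) blk377 blk376 (Nat.blt q 377)) (Nat.blt q 378)) (Nat.blt q 380))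
def sel53 (q : ℕ) : ℕ := (Bool.rec (motive := fun _ => ℕ) (Bool.rec (motive := fun _ => ℕ) (Bool.rec (motive := fun _ => ℕ) (sel52 q) (sel51 q) (Nat.blt q 376)) (Bool.rec (motive := fun _ => ℕ) (sel50 q) (sel49 q) (Nat.blt q 360)) (Nat.blt q 368)) (Bool.rec (motive := fun _ => ℕ) (Bool.rec (motive := fun _ => ℕ) (sel48 q) (sel47 q) (Nat.blt q 344)) (Bool.rec (motive := fun _ => ℕ) (sel46 q) (sel45 q) (Nat.blt q 328)) (Nat.blt q 336)) (Nat.blt q 352))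
def sel54 (q : ℕ) : ℕ := (Bool.rec (motive := fun _ => ℕ) (Bool.rec (motive := fun _ => ℕ) (Bool.rec (motive := fun _ => ℕ) blk391 blk390 (Nat.blt q 391)) (Bool.rec (motive := fun _ => ℕ) blk389 blk388 (Nat.blt q 389)) (Nat.blt q 390)) (Bool.rec (motive := fun _ => ℕ) (Bool.rec (motive := fun _ => ℕ) blk387 blk386 (Nat.blt q 387)) (Bool.rec (motive := fun _ => ℕ) blk385 blk384 (Nat.blt q 385)) (Nat.blt q 386)) (Nat.blt q 388))
def sel55 (q : ℕ) : ℕ := (Bool.rec (motive := fun _ => ℕ) (Bool.rec (motive := fun _ => ℕ) (Bool.rec (motive := fun _ => ℕ) blk399 blk398 (Nat.blt q 399)) (Bool.rec (motive := fun _ => ℕ) blk397 blk396 (Nat.blt q 397)) (Nat.blt q 398)) (Bool.rec (motive := fun _ => ℕ) (Bool.rec (motive := fun _ => ℕ) blk395 blk394 (Nat.blt q 395)) (Bool.rec (motive := fun _ => ℕ) blk393 blk392 (Nat.blt q 393)) (Nat.blt q 394)) (Nat.blt q 396))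
def sel56 (q : ℕ) : ℕ := (Bool.rec (motive := fun _ => ℕ) (Bool.rec (motive := fun _ => ℕ) (Bool.rec (motive := fun _ => ℕ) blk407 blk406 (Nat.blt q 407)) (Bool.rec (motive := fun _ => ℕ) blk405 blk404 (Nat.blt q 405)) (Nat.blt q 406)) (Bool.rec (motive := fun _ => ℕ) (Bool.rec (motive := fun _ => ℕ) blk403 blk402 (Nat.blt q 403)) (Bool.rec (motive := fun _ => ℕ) blk401 blk400 (Nat.blt q 401)) (Nat.blt q 402)) (Nat.blt q 404))
def sel57 (q : ℕ) : ℕ := (Bool.rec (motive := fun _ => ℕ) (Bool.rec (motive := fun _ => ℕ) (Bool.rec (motive := fun _ => ℕ) blk415 blk414 (Nat.blt q 415)) (Bool.rec (motive := fun _ => ℕ) blk413 blk412 (Nat.blt q 413)) (Nat.blt q 414)) (Bool.rec (motive := fun _ => ℕ) (Bool.rec (motive := fun _ => ℕ) blk411 blk410 (Nat.blt q 411)) (Bool.rec (motive := fun _ => ℕ) blk409 blk408 (Nat.blt q 409)) (Nat.blt q 410)) (Nat.blt q 412))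
def sel58 (q : ℕ) : ℕ := (Bool.rec (motive := fun _ => ℕ) (Bool.rec (motive := fun _ => ℕ) (Bool.rec (motive := fun _ => ℕ) blk423 blk422 (Nat.blt q 423)) (Bool.rec (motive := fun _ => ℕ) blk421 blk420 (Nat.blt q 421)) (Nat.blt q 422)) (Bool.rec (motive := fun _ => ℕ) (Bool.rec (motive := fun _ => ℕ) blk419 blk418 (Nat.blt q 419)) (Bool.rec (motive := fun _ => ℕ) blk417 blk416 (Nat.blt q 417)) (Nat.blt q 418)) (Nat.blt q 420))
def sel59 (q : ℕ) : ℕ := (Bool.rec (motive := fun _ => ℕ) (Bool.rec (motive := fun _ => ℕ) (Bool.rec (motive := fun _ => ℕ) blk431 blk430 (Nat.blt q 431)) (Bool.rec (motive := fun _ => ℕ) blk429 blk428 (Nat.blt q 429)) (Nat.blt q 430)) (Bool.rec (motive := fun _ => ℕ) (Bool.rec (motive := fun _ => ℕ) blk427 blk426 (Nat.blt q 427)) (Bool.rec (motive := fun _ => ℕ) blk425 blk424 (Nat.blt q 425)) (Nat.blt q 426)) (Nat.blt q 428))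
def sel60 (q : ℕ) : ℕ := (Bool.rec (motive := fun _ => ℕ) (Bool.rec (motive := fun _ => ℕ) (Bool.rec (motive := fun _ => ℕ) blk439 blk438 (Nat.blt q 439)) (Bool.rec (motive := fun _ => ℕ) blk437 blk436 (Nat.blt q 437)) (Nat.blt q 438)) (Bool.rec (motive := fun _ => ℕ) (Bool.rec (motive := fun _ => ℕ) blk435 blk434 (Nat.blt q 435)) (Bool.rec (motive := fun _ => ℕ) blk433 blk432 (Nat.blt q 433)) (Nat.blt q 434)) (Nat.blt q 436))
def sel61 (q : ℕ) : ℕ := (Bool.rec (motive := fun _ => ℕ) (Bool.rec (motive := fun _ => ℕ) (Bool.rec (motive := fun _ => ℕ) blk447 blk446 (Nat.blt q 447)) (Bool.rec (motive := fun _ => ℕ) blk445 blk444 (Nat.blt q 445)) (Nat.blt q 446)) (Bool.rec (motive := fun _ => ℕ) (Bool.rec (motive := fun _ => ℕ) blk443 blk442 (Nat.blt q 443)) (Bool.rec (motive := fun _ => ℕ) blk441 blk440 (Nat.blt q 441)) (Nat.blt q 442)) (Nat.blt q 444))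
def sel62 (q : ℕ) : ℕ := (Bool.rec (motive := fun _ => ℕ) (Bool.rec (motive := fun _ => ℕ) (Bool.rec (motive := fun _ => ℕ) (sel61 q) (sel60 q) (Nat.blt q 440)) (Bool.rec (motive := fun _ => ℕ) (sel59 q) (sel58 q) (Nat.blt q 424)) (Nat.blt q 432)) (Bool.rec (motive := fun _ => ℕ) (Bool.rec (motive := fun _ => ℕ) (sel57 q) (sel56 q) (Nat.blt q 408)) (Bool.rec (motive := fun _ => ℕ) (sel55 q) (sel54 q) (Nat.blt q 392)) (Nat.blt q 400)) (Nat.blt q 416))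
def sel63 (q : ℕ) : ℕ := (Bool.rec (motive := fun _ => ℕ) (Bool.rec (motive := fun _ => ℕ) (Bool.rec (motive := fun _ => ℕ) blk455 blk454 (Nat.blt q 455)) (Bool.rec (motive := fun _ => ℕ) blk453 blk452 (Nat.blt q 453)) (Nat.blt q 454)) (Bool.rec (motive := fun _ => ℕ) (Bool.rec (motive := fun _ => ℕ) blk451 blk450 (Nat.blt q 451)) (Bool.rec (motive := fun _ => ℕ) blk449 blk448 (Nat.blt q 449)) (Nat.blt q 450)) (Nat.blt q 452))
def sel64 (q : ℕ) : ℕ := (Bool.rec (motive := fun _ => ℕ) (Bool.rec (motive := fun _ => ℕ) (Bool.rec (motive := fun _ => ℕ) blk463 blk462 (Nat.blt q 463)) (Bool.rec (motive := fun _ => ℕ) blk461 blk460 (Nat.blt q 461)) (Nat.blt q 462)) (Bool.rec (motive := fun _ => ℕ) (Bool.rec (motive := fun _ => ℕ) blk459 blk458 (Nat.blt q 459)) (Bool.rec (motive := fun _ => ℕ) blk457 blk456 (Nat.blt q 457)) (Nat.blt q 458)) (Nat.blt q 460))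
def sel65 (q : ℕ) : ℕ := (Bool.rec (motive := fun _ => ℕ) (Bool.rec (motive := fun _ => ℕ) (Bool.rec (motive := fun _ => ℕ) blk471 blk470 (Nat.blt q 471)) (Bool.rec (motive := fun _ => ℕ) blk469 blk468 (Nat.blt q 469)) (Nat.blt q 470)) (Bool.rec (motive := fun _ => ℕ) (Bool.rec (motive := fun _ => ℕ) blk467 blk466 (Nat.blt q 467)) (Bool.rec (motive := fun _ => ℕ) blk465 blk464 (Nat.blt q 465)) (Nat.blt q 466)) (Nat.blt q 468))
def sel66 (q : ℕ) : ℕ := (Bool.rec (motive := fun _ => ℕ) (Bool.rec (motive := fun _ => ℕ) (Bool.rec (motive := fun _ => ℕ) blk479 blk478 (Nat.blt q 479)) (Bool.rec (motive := fun _ => ℕ) blk477 blk476 (Nat.blt q 477)) (Nat.blt q 478)) (Bool.rec (motive := fun _ => ℕ) (Bool.rec (motive := fun _ => ℕ) blk475 blk474 (Nat.blt q 475)) (Bool.rec (motive := fun _ => ℕ) blk473 blk472 (Nat.blt q 473)) (Nat.blt q 474)) (Nat.blt q 476))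
def sel67 (q : ℕ) : ℕ := (Bool.rec (motive := fun _ => ℕ) (Bool.rec (motive := fun _ => ℕ) (sel66 q) (sel65 q) (Nat.blt q 472)) (Bool.rec (motive := fun _ => ℕ) (sel64 q) (sel63 q) (Nat.blt q 456)) (Nat.blt q 464))
def sel68 (q : ℕ) : ℕ := (Bool.rec (motive := fun _ => ℕ) (Bool.rec (motive := fun _ => ℕ) (Bool.rec (motive := fun _ => ℕ) (sel67 q) (sel62 q) (Nat.blt q 448)) (Bool.rec (motive := fun _ => ℕ) (sel53 q) (sel44 q) (Nat.blt q 320)) (Nat.blt q 384)) (Bool.rec (motive := fun _ => ℕ) (Bool.rec (motive := fun _ => ℕ) (sel35 q) (sel26 q) (Nat.blt q 192)) (Bool.rec (motive := fun _ => ℕ) (sel17 q) (sel8 q) (Nat.blt q 64)) (Nat.blt q 128)) (Nat.blt q 256))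

/-- image, time and justification of the edge with letter `g` at node `c` -/
def entry (g c : ℕ) : ℕ :=
  Nat.land (Nat.shiftRight (Nat.rec (motive := fun _ => ℕ) (sel68 0) (fun m _ => sel68 (Nat.succ m)) (Nat.shiftRight c 8))
    (Nat.add (Nat.mul 296 (Nat.land c 255)) (Nat.mul 37 g))) 137438953471

def words : List (List ℕ) := [[0,0],[1,0,1,0,1,0],[2,0,2,0],[3,0,3,0],[4,0,4,0],[5,0,5,0],[1,1],[2,1,2,1,2,1],[3,1,3,1],[4,1,4,1],[5,1,5,1],[2,2],[3,2,3,2,3,2,3,2,3,2,3,2,3,2,3,2],[4,2,4,2],[5,2,5,2],[3,3],[4,3,4,3,4,3],[5,3,5,3],[4,4],[5,4,5,4,5,4],[5,5],[7,7,5,0],[2,3,2,3,2,3,2,3,5,0],[6,3,6,3,2,3,7,3,7,2],[6,2,6,2,3,2,7,2,7,3],[6,3,2,1,6,3,2,1,6,3,2,1,6,3,2,1,6,3,2,1],[2,6,2,1,6,1,2,6,2,1,6],[3,6,3,4,6,4,3,6,3,4,6],[0],[1],[2],[3],[4],[5],[6,1,6,6,0,1,7],[6,4,3,7,2,4,3,7,4,6,2,3,4,7]]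

def data : Data := ⟨122760, 8, entry, pa, words, 28, iv⟩

end

end Tab
end ON
end H93
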