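import Mathlib
import Cfsg.Agent.H93.ON.Tab.Data

/-!
A checked coset table (generated data).
-/

set_option autoImplicit false
set_option maxRecDepth 100000
set_option linter.all false
set_option Elab.async false

namespace H93
namespace ON
namespace Tab

open CosetI

noncomputable section

theorem edge3_0 : data.edgesOK 3 0 12276 = true := by decide +kernel

theorem edge3_1 : data.edgesOK 3 12276 12276 = true := by decide +kernel

theorem edge3_2 : data.edgesOK 3 24552 12276 = true := by decide +kernel

theorem edge3_3 : data.edgesOK 3 36828 12276 = true := by decide +kernel

theorem edge3_4 : data.edgesOK 3 49104 12276 = true := by decide +kernel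

theorem edge3_5 : data.edgesOK 3 61380 12276 = true := by decide +kernel

theorem edge3_6 : data.edgesOK 3 73656 12276 = true := by decide +kernel

theorem edge3_7 : data.edgesOK 3 85932 12276 = true := by decide +kernel

theorem edge3_8 : data.edgesOK 3 98208 12276 = true := by decide +kernel

theorem edge3_9 : data.edgesOK 3 110484 12276 = true := by decide +kernel


end

end Tab
end ON
end H93
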