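import Mathlib
import Cfsg.Agent.H93.ON.Tab.Data
import Cfsg.Agent.H93.CI.Fix

/-!
A checked coset table (generated data).
-/

set_option autoImplicit false
set_option maxRecDepth 100000
set_option linter.all false
set_option Elab.async false

namespace H93
namespace ON
namespace Tab

open CosetI

noncomputable section

theorem rel25_0 : fixAll data [6,3,2,1,6,3,2,1,6,3,2,1,6,3,2,1,6,3,2,1] 0 12276 = true := by decide +kernel

theorem rel25_1 : fixAll data [6,3,2,1,6,3,2,1,6,3,2,1,6,3,2,1,6,3,2,1] 12276 12276 = true := by decide +kernel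

theorem rel25_2 : fixAll data [6,3,2,1,6,3,2,1,6,3,2,1,6,3,2,1,6,3,2,1] 24552 12276 = true := by decide +kernel

theorem rel25_3 : fixAll data [6,3,2,1,6,3,2,1,6,3,2,1,6,3,2,1,6,3,2,1] 36828 12276 = true := by decide +kernel

theorem rel25_4 : fixAll data [6,3,2,1,6,3,2,1,6,3,2,1,6,3,2,1,6,3,2,1] 49104 12276 = true := by decide +kernel

theorem rel25_5 : fixAll data [6,3,2,1,6,3,2,1,6,3,2,1,6,3,2,1,6,3,2,1] 61380 12276 = true := by decide +kernel

theorem rel25_6 : fixAll data [6,3,2,1,6,3,2,1,6,3,2,1,6,3,2,1,6,3,2,1] 73656 12276 = true := by decide +kernel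

theorem rel25_7 : fixAll data [6,3,2,1,6,3,2,1,6,3,2,1,6,3,2,1,6,3,2,1] 85932 12276 = true := by decide +kernel

theorem rel25_8 : fixAll data [6,3,2,1,6,3,2,1,6,3,2,1,6,3,2,1,6,3,2,1] 98208 12276 = true := by decide +kernel

theorem rel25_9 : fixAll data [6,3,2,1,6,3,2,1,6,3,2,1,6,3,2,1,6,3,2,1] 110484 12276 = true := by decide +kernel

theorem rel19_0 : fixHalf data 5 [5,4,5,4,5,4] 0 12276 = true := by decide +kernel

theorem rel19_1 : fixHalf data 5 [5,4,5,4,5,4] 12276 12276 = true := by decide +kernel

theorem rel19_2 : fixHalf data 5 [5,4,5,4,5,4] 24552 12276 = true := by decide +kernel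

theorem rel19_3 : fixHalf data 5 [5,4,5,4,5,4] 36828 12276 = true := by decide +kernel

theorem rel19_4 : fixHalf data 5 [5,4,5,4,5,4] 49104 12276 = true := by decide +kernel

theorem rel19_5 : fixHalf data 5 [5,4,5,4,5,4] 61380 12276 = true := by decide +kernel

theorem rel19_6 : fixHalf data 5 [5,4,5,4,5,4] 73656 12276 = true := by decide +kernel

theorem rel19_7 : fixHalf data 5 [5,4,5,4,5,4] 85932 12276 = true := by decide +kernel

theorem rel19_8 : fixHalf data 5 [5,4,5,4,5,4] 98208 12276 = true := by decide +kernel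

theorem rel19_9 : fixHalf data 5 [5,4,5,4,5,4] 110484 12276 = true := by decide +kernel

theorem rel4_0 : fixHalf data 4 [4,0,4,0] 0 12276 = true := by decide +kernel

theorem rel4_1 : fixHalf data 4 [4,0,4,0] 12276 12276 = true := by decide +kernel

theorem rel4_2 : fixHalf data 4 [4,0,4,0] 24552 12276 = true := by decide +kernel

theorem rel4_3 : fixHalf data 4 [4,0,4,0] 36828 12276 = true := by decide +kernel

theorem rel4_4 : fixHalf data 4 [4,0,4,0] 49104 12276 = true := by decide +kernel

theorem rel4_5 : fixHalf data 4 [4,0,4,0] 61380 12276 = true := by decide +kernel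

theorem rel4_6 : fixHalf data 4 [4,0,4,0] 73656 12276 = true := by decide +kernel

theorem rel4_7 : fixHalf data 4 [4,0,4,0] 85932 12276 = true := by decide +kernel

theorem rel4_8 : fixHalf data 4 [4,0,4,0] 98208 12276 = true := by decide +kernel

theorem rel4_9 : fixHalf data 4 [4,0,4,0] 110484 12276 = true := by decide +kernel

theorem rel10_0 : fixHalf data 5 [5,1,5,1] 0 12276 = true := by decide +kernel

theorem rel10_1 : fixHalf data 5 [5,1,5,1] 12276 12276 = true := by decide +kernel

theorem rel10_2 : fixHalf data 5 [5,1,5,1] 24552 12276 = true := by decide +kernel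

theorem rel10_3 : fixHalf data 5 [5,1,5,1] 36828 12276 = true := by decide +kernel

theorem rel10_4 : fixHalf data 5 [5,1,5,1] 49104 12276 = true := by decide +kernel

theorem rel10_5 : fixHalf data 5 [5,1,5,1] 61380 12276 = true := by decide +kernel

theorem rel10_6 : fixHalf data 5 [5,1,5,1] 73656 12276 = true := by decide +kernel

theorem rel10_7 : fixHalf data 5 [5,1,5,1] 85932 12276 = true := by decide +kernel

theorem rel10_8 : fixHalf data 5 [5,1,5,1] 98208 12276 = true := by decide +kernel

theorem rel10_9 : fixHalf data 5 [5,1,5,1] 110484 12276 = true := by decide +kernel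


end

end Tab
end ON
end H93
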