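import Mathlib
import Cfsg.Agent.H93.ON.Tab.Data
import Cfsg.Agent.H93.CI.Fix

/-!
A checked coset table (generated data).
-/

set_option autoImplicit false
set_option maxRecDepth 100000
set_option linter.all false
set_option Elab.async false

namespace H93
namespace ON
namespace Tab

open CosetI

noncomputable section

theorem rel26_0 : fixAll data [2,6,2,1,6,1,2,6,2,1,6] 0 12276 = true := by decide +kernel

theorem rel26_1 : fixAll data [2,6,2,1,6,1,2,6,2,1,6] 12276 12276 = true := by decide +kernel

theorem rel26_2 : fixAll data [2,6,2,1,6,1,2,6,2,1,6] 24552 12276 = true := by decide +kernel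

theorem rel26_3 : fixAll data [2,6,2,1,6,1,2,6,2,1,6] 36828 12276 = true := by decide +kernel

theorem rel26_4 : fixAll data [2,6,2,1,6,1,2,6,2,1,6] 49104 12276 = true := by decide +kernel

theorem rel26_5 : fixAll data [2,6,2,1,6,1,2,6,2,1,6] 61380 12276 = true := by decide +kernel

theorem rel26_6 : fixAll data [2,6,2,1,6,1,2,6,2,1,6] 73656 12276 = true := by decide +kernel

theorem rel26_7 : fixAll data [2,6,2,1,6,1,2,6,2,1,6] 85932 12276 = true := by decide +kernel

theorem rel26_8 : fixAll data [2,6,2,1,6,1,2,6,2,1,6] 98208 12276 = true := by decide +kernel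

theorem rel26_9 : fixAll data [2,6,2,1,6,1,2,6,2,1,6] 110484 12276 = true := by decide +kernel

theorem rel24_0 : fixAll data [6,2,6,2,3,2,7,2,7,3] 0 12276 = true := by decide +kernel

theorem rel24_1 : fixAll data [6,2,6,2,3,2,7,2,7,3] 12276 12276 = true := by decide +kernel

theorem rel24_2 : fixAll data [6,2,6,2,3,2,7,2,7,3] 24552 12276 = true := by decide +kernel

theorem rel24_3 : fixAll data [6,2,6,2,3,2,7,2,7,3] 36828 12276 = true := by decide +kernel

theorem rel24_4 : fixAll data [6,2,6,2,3,2,7,2,7,3] 49104 12276 = true := by decide +kernel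

theorem rel24_5 : fixAll data [6,2,6,2,3,2,7,2,7,3] 61380 12276 = true := by decide +kernel

theorem rel24_6 : fixAll data [6,2,6,2,3,2,7,2,7,3] 73656 12276 = true := by decide +kernel

theorem rel24_7 : fixAll data [6,2,6,2,3,2,7,2,7,3] 85932 12276 = true := by decide +kernel

theorem rel24_8 : fixAll data [6,2,6,2,3,2,7,2,7,3] 98208 12276 = true := by decide +kernel

theorem rel24_9 : fixAll data [6,2,6,2,3,2,7,2,7,3] 110484 12276 = true := by decide +kernel

theorem rel2_0 : fixHalf data 2 [2,0,2,0] 0 12276 = true := by decide +kernel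

theorem rel2_1 : fixHalf data 2 [2,0,2,0] 12276 12276 = true := by decide +kernel

theorem rel2_2 : fixHalf data 2 [2,0,2,0] 24552 12276 = true := by decide +kernel

theorem rel2_3 : fixHalf data 2 [2,0,2,0] 36828 12276 = true := by decide +kernel

theorem rel2_4 : fixHalf data 2 [2,0,2,0] 49104 12276 = true := by decide +kernel

theorem rel2_5 : fixHalf data 2 [2,0,2,0] 61380 12276 = true := by decide +kernel

theorem rel2_6 : fixHalf data 2 [2,0,2,0] 73656 12276 = true := by decide +kernel

theorem rel2_7 : fixHalf data 2 [2,0,2,0] 85932 12276 = true := by decide +kernel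

theorem rel2_8 : fixHalf data 2 [2,0,2,0] 98208 12276 = true := by decide +kernel

theorem rel2_9 : fixHalf data 2 [2,0,2,0] 110484 12276 = true := by decide +kernel

theorem rel5_0 : fixHalf data 5 [5,0,5,0] 0 12276 = true := by decide +kernel

theorem rel5_1 : fixHalf data 5 [5,0,5,0] 12276 12276 = true := by decide +kernel

theorem rel5_2 : fixHalf data 5 [5,0,5,0] 24552 12276 = true := by decide +kernel

theorem rel5_3 : fixHalf data 5 [5,0,5,0] 36828 12276 = true := by decide +kernel

theorem rel5_4 : fixHalf data 5 [5,0,5,0] 49104 12276 = true := by decide +kernel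

theorem rel5_5 : fixHalf data 5 [5,0,5,0] 61380 12276 = true := by decide +kernel

theorem rel5_6 : fixHalf data 5 [5,0,5,0] 73656 12276 = true := by decide +kernel

theorem rel5_7 : fixHalf data 5 [5,0,5,0] 85932 12276 = true := by decide +kernel

theorem rel5_8 : fixHalf data 5 [5,0,5,0] 98208 12276 = true := by decide +kernel

theorem rel5_9 : fixHalf data 5 [5,0,5,0] 110484 12276 = true := by decide +kernel

theorem rel13_0 : fixHalf data 4 [4,2,4,2] 0 12276 = true := by decide +kernel

theorem rel13_1 : fixHalf data 4 [4,2,4,2] 12276 12276 = true := by decide +kernel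

theorem rel13_2 : fixHalf data 4 [4,2,4,2] 24552 12276 = true := by decide +kernel

theorem rel13_3 : fixHalf data 4 [4,2,4,2] 36828 12276 = true := by decide +kernel

theorem rel13_4 : fixHalf data 4 [4,2,4,2] 49104 12276 = true := by decide +kernel

theorem rel13_5 : fixHalf data 4 [4,2,4,2] 61380 12276 = true := by decide +kernel

theorem rel13_6 : fixHalf data 4 [4,2,4,2] 73656 12276 = true := by decide +kernel

theorem rel13_7 : fixHalf data 4 [4,2,4,2] 85932 12276 = true := by decide +kernel

theorem rel13_8 : fixHalf data 4 [4,2,4,2] 98208 12276 = true := by decide +kernel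

theorem rel13_9 : fixHalf data 4 [4,2,4,2] 110484 12276 = true := by decide +kernel


end

end Tab
end ON
end H93
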