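import Mathlib
import Cfsg.Agent.H93.ON.Tab.Data
import Cfsg.Agent.H93.CI.Fix

/-!
A checked coset table (generated data).
-/

set_option autoImplicit false
set_option maxRecDepth 100000
set_option linter.all false
set_option Elab.async false

namespace H93
namespace ON
namespace Tab

open CosetI

noncomputable section

theorem rel27_0 : fixAll data [3,6,3,4,6,4,3,6,3,4,6] 0 12276 = true := by decide +kernel

theorem rel27_1 : fixAll data [3,6,3,4,6,4,3,6,3,4,6] 12276 12276 = true := by decide +kernel

theorem rel27_2 : fixAll data [3,6,3,4,6,4,3,6,3,4,6] 24552 12276 = true := by decide +kernel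

theorem rel27_3 : fixAll data [3,6,3,4,6,4,3,6,3,4,6] 36828 12276 = true := by decide +kernel

theorem rel27_4 : fixAll data [3,6,3,4,6,4,3,6,3,4,6] 49104 12276 = true := by decide +kernel

theorem rel27_5 : fixAll data [3,6,3,4,6,4,3,6,3,4,6] 61380 12276 = true := by decide +kernel

theorem rel27_6 : fixAll data [3,6,3,4,6,4,3,6,3,4,6] 73656 12276 = true := by decide +kernel

theorem rel27_7 : fixAll data [3,6,3,4,6,4,3,6,3,4,6] 85932 12276 = true := by decide +kernel

theorem rel27_8 : fixAll data [3,6,3,4,6,4,3,6,3,4,6] 98208 12276 = true := by decide +kernel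

theorem rel27_9 : fixAll data [3,6,3,4,6,4,3,6,3,4,6] 110484 12276 = true := by decide +kernel

theorem rel1_0 : fixHalf data 1 [1,0,1,0,1,0] 0 12276 = true := by decide +kernel

theorem rel1_1 : fixHalf data 1 [1,0,1,0,1,0] 12276 12276 = true := by decide +kernel

theorem rel1_2 : fixHalf data 1 [1,0,1,0,1,0] 24552 12276 = true := by decide +kernel

theorem rel1_3 : fixHalf data 1 [1,0,1,0,1,0] 36828 12276 = true := by decide +kernel

theorem rel1_4 : fixHalf data 1 [1,0,1,0,1,0] 49104 12276 = true := by decide +kernel

theorem rel1_5 : fixHalf data 1 [1,0,1,0,1,0] 61380 12276 = true := by decide +kernel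

theorem rel1_6 : fixHalf data 1 [1,0,1,0,1,0] 73656 12276 = true := by decide +kernel

theorem rel1_7 : fixHalf data 1 [1,0,1,0,1,0] 85932 12276 = true := by decide +kernel

theorem rel1_8 : fixHalf data 1 [1,0,1,0,1,0] 98208 12276 = true := by decide +kernel

theorem rel1_9 : fixHalf data 1 [1,0,1,0,1,0] 110484 12276 = true := by decide +kernel

theorem rel7_0 : fixHalf data 2 [2,1,2,1,2,1] 0 12276 = true := by decide +kernel

theorem rel7_1 : fixHalf data 2 [2,1,2,1,2,1] 12276 12276 = true := by decide +kernel

theorem rel7_2 : fixHalf data 2 [2,1,2,1,2,1] 24552 12276 = true := by decide +kernel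

theorem rel7_3 : fixHalf data 2 [2,1,2,1,2,1] 36828 12276 = true := by decide +kernel

theorem rel7_4 : fixHalf data 2 [2,1,2,1,2,1] 49104 12276 = true := by decide +kernel

theorem rel7_5 : fixHalf data 2 [2,1,2,1,2,1] 61380 12276 = true := by decide +kernel

theorem rel7_6 : fixHalf data 2 [2,1,2,1,2,1] 73656 12276 = true := by decide +kernel

theorem rel7_7 : fixHalf data 2 [2,1,2,1,2,1] 85932 12276 = true := by decide +kernel

theorem rel7_8 : fixHalf data 2 [2,1,2,1,2,1] 98208 12276 = true := by decide +kernel

theorem rel7_9 : fixHalf data 2 [2,1,2,1,2,1] 110484 12276 = true := by decide +kernel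

theorem rel16_0 : fixHalf data 4 [4,3,4,3,4,3] 0 12276 = true := by decide +kernel

theorem rel16_1 : fixHalf data 4 [4,3,4,3,4,3] 12276 12276 = true := by decide +kernel

theorem rel16_2 : fixHalf data 4 [4,3,4,3,4,3] 24552 12276 = true := by decide +kernel

theorem rel16_3 : fixHalf data 4 [4,3,4,3,4,3] 36828 12276 = true := by decide +kernel

theorem rel16_4 : fixHalf data 4 [4,3,4,3,4,3] 49104 12276 = true := by decide +kernel

theorem rel16_5 : fixHalf data 4 [4,3,4,3,4,3] 61380 12276 = true := by decide +kernel

theorem rel16_6 : fixHalf data 4 [4,3,4,3,4,3] 73656 12276 = true := by decide +kernel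

theorem rel16_7 : fixHalf data 4 [4,3,4,3,4,3] 85932 12276 = true := by decide +kernel

theorem rel16_8 : fixHalf data 4 [4,3,4,3,4,3] 98208 12276 = true := by decide +kernel

theorem rel16_9 : fixHalf data 4 [4,3,4,3,4,3] 110484 12276 = true := by decide +kernel

theorem rel3_0 : fixHalf data 3 [3,0,3,0] 0 12276 = true := by decide +kernel

theorem rel3_1 : fixHalf data 3 [3,0,3,0] 12276 12276 = true := by decide +kernel

theorem rel3_2 : fixHalf data 3 [3,0,3,0] 24552 12276 = true := by decide +kernel

theorem rel3_3 : fixHalf data 3 [3,0,3,0] 36828 12276 = true := by decide +kernel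

theorem rel3_4 : fixHalf data 3 [3,0,3,0] 49104 12276 = true := by decide +kernel

theorem rel3_5 : fixHalf data 3 [3,0,3,0] 61380 12276 = true := by decide +kernel

theorem rel3_6 : fixHalf data 3 [3,0,3,0] 73656 12276 = true := by decide +kernel

theorem rel3_7 : fixHalf data 3 [3,0,3,0] 85932 12276 = true := by decide +kernel

theorem rel3_8 : fixHalf data 3 [3,0,3,0] 98208 12276 = true := by decide +kernel

theorem rel3_9 : fixHalf data 3 [3,0,3,0] 110484 12276 = true := by decide +kernel

theorem rel9_0 : fixHalf data 4 [4,1,4,1] 0 12276 = true := by decide +kernel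

theorem rel9_1 : fixHalf data 4 [4,1,4,1] 12276 12276 = true := by decide +kernel

theorem rel9_2 : fixHalf data 4 [4,1,4,1] 24552 12276 = true := by decide +kernel

theorem rel9_3 : fixHalf data 4 [4,1,4,1] 36828 12276 = true := by decide +kernel

theorem rel9_4 : fixHalf data 4 [4,1,4,1] 49104 12276 = true := by decide +kernel

theorem rel9_5 : fixHalf data 4 [4,1,4,1] 61380 12276 = true := by decide +kernel

theorem rel9_6 : fixHalf data 4 [4,1,4,1] 73656 12276 = true := by decide +kernel

theorem rel9_7 : fixHalf data 4 [4,1,4,1] 85932 12276 = true := by decide +kernel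

theorem rel9_8 : fixHalf data 4 [4,1,4,1] 98208 12276 = true := by decide +kernel

theorem rel9_9 : fixHalf data 4 [4,1,4,1] 110484 12276 = true := by decide +kernel

theorem rel17_0 : fixHalf data 5 [5,3,5,3] 0 12276 = true := by decide +kernel

theorem rel17_1 : fixHalf data 5 [5,3,5,3] 12276 12276 = true := by decide +kernel

theorem rel17_2 : fixHalf data 5 [5,3,5,3] 24552 12276 = true := by decide +kernel

theorem rel17_3 : fixHalf data 5 [5,3,5,3] 36828 12276 = true := by decide +kernel

theorem rel17_4 : fixHalf data 5 [5,3,5,3] 49104 12276 = true := by decide +kernel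

theorem rel17_5 : fixHalf data 5 [5,3,5,3] 61380 12276 = true := by decide +kernel

theorem rel17_6 : fixHalf data 5 [5,3,5,3] 73656 12276 = true := by decide +kernel

theorem rel17_7 : fixHalf data 5 [5,3,5,3] 85932 12276 = true := by decide +kernel

theorem rel17_8 : fixHalf data 5 [5,3,5,3] 98208 12276 = true := by decide +kernel

theorem rel17_9 : fixHalf data 5 [5,3,5,3] 110484 12276 = true := by decide +kernel


end

end Tab
end ON
end H93
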