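import Mathlib
import Cfsg.Agent.H93.ON.Tab.Data
import Cfsg.Agent.H93.CI.Fix

/-!
A checked coset table (generated data).
-/

set_option autoImplicit false
set_option maxRecDepth 100000
set_option linter.all false
set_option Elab.async false

namespace H93
namespace ON
namespace Tab

open CosetI

noncomputable section

theorem rel22_0 : fixAll data [2,3,2,3,2,3,2,3,5,0] 0 12276 = true := by decide +kernel

theorem rel22_1 : fixAll data [2,3,2,3,2,3,2,3,5,0] 12276 12276 = true := by decide +kernel

theorem rel22_2 : fixAll data [2,3,2,3,2,3,2,3,5,0] 24552 12276 = true := by decide +kernel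

theorem rel22_3 : fixAll data [2,3,2,3,2,3,2,3,5,0] 36828 12276 = true := by decide +kernel

theorem rel22_4 : fixAll data [2,3,2,3,2,3,2,3,5,0] 49104 12276 = true := by decide +kernel

theorem rel22_5 : fixAll data [2,3,2,3,2,3,2,3,5,0] 61380 12276 = true := by decide +kernel

theorem rel22_6 : fixAll data [2,3,2,3,2,3,2,3,5,0] 73656 12276 = true := by decide +kernel

theorem rel22_7 : fixAll data [2,3,2,3,2,3,2,3,5,0] 85932 12276 = true := by decide +kernel

theorem rel22_8 : fixAll data [2,3,2,3,2,3,2,3,5,0] 98208 12276 = true := by decide +kernel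

theorem rel22_9 : fixAll data [2,3,2,3,2,3,2,3,5,0] 110484 12276 = true := by decide +kernel

theorem rel23_0 : fixAll data [6,3,6,3,2,3,7,3,7,2] 0 12276 = true := by decide +kernel

theorem rel23_1 : fixAll data [6,3,6,3,2,3,7,3,7,2] 12276 12276 = true := by decide +kernel

theorem rel23_2 : fixAll data [6,3,6,3,2,3,7,3,7,2] 24552 12276 = true := by decide +kernel

theorem rel23_3 : fixAll data [6,3,6,3,2,3,7,3,7,2] 36828 12276 = true := by decide +kernel

theorem rel23_4 : fixAll data [6,3,6,3,2,3,7,3,7,2] 49104 12276 = true := by decide +kernel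

theorem rel23_5 : fixAll data [6,3,6,3,2,3,7,3,7,2] 61380 12276 = true := by decide +kernel

theorem rel23_6 : fixAll data [6,3,6,3,2,3,7,3,7,2] 73656 12276 = true := by decide +kernel

theorem rel23_7 : fixAll data [6,3,6,3,2,3,7,3,7,2] 85932 12276 = true := by decide +kernel

theorem rel23_8 : fixAll data [6,3,6,3,2,3,7,3,7,2] 98208 12276 = true := by decide +kernel

theorem rel23_9 : fixAll data [6,3,6,3,2,3,7,3,7,2] 110484 12276 = true := by decide +kernel

theorem rel21_0 : fixAll data [7,7,5,0] 0 12276 = true := by decide +kernel

theorem rel21_1 : fixAll data [7,7,5,0] 12276 12276 = true := by decide +kernel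

theorem rel21_2 : fixAll data [7,7,5,0] 24552 12276 = true := by decide +kernel

theorem rel21_3 : fixAll data [7,7,5,0] 36828 12276 = true := by decide +kernel

theorem rel21_4 : fixAll data [7,7,5,0] 49104 12276 = true := by decide +kernel

theorem rel21_5 : fixAll data [7,7,5,0] 61380 12276 = true := by decide +kernel

theorem rel21_6 : fixAll data [7,7,5,0] 73656 12276 = true := by decide +kernel

theorem rel21_7 : fixAll data [7,7,5,0] 85932 12276 = true := by decide +kernel

theorem rel21_8 : fixAll data [7,7,5,0] 98208 12276 = true := by decide +kernel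

theorem rel21_9 : fixAll data [7,7,5,0] 110484 12276 = true := by decide +kernel

theorem rel8_0 : fixHalf data 3 [3,1,3,1] 0 12276 = true := by decide +kernel

theorem rel8_1 : fixHalf data 3 [3,1,3,1] 12276 12276 = true := by decide +kernel

theorem rel8_2 : fixHalf data 3 [3,1,3,1] 24552 12276 = true := by decide +kernel

theorem rel8_3 : fixHalf data 3 [3,1,3,1] 36828 12276 = true := by decide +kernel

theorem rel8_4 : fixHalf data 3 [3,1,3,1] 49104 12276 = true := by decide +kernel

theorem rel8_5 : fixHalf data 3 [3,1,3,1] 61380 12276 = true := by decide +kernel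

theorem rel8_6 : fixHalf data 3 [3,1,3,1] 73656 12276 = true := by decide +kernel

theorem rel8_7 : fixHalf data 3 [3,1,3,1] 85932 12276 = true := by decide +kernel

theorem rel8_8 : fixHalf data 3 [3,1,3,1] 98208 12276 = true := by decide +kernel

theorem rel8_9 : fixHalf data 3 [3,1,3,1] 110484 12276 = true := by decide +kernel

theorem rel14_0 : fixHalf data 5 [5,2,5,2] 0 12276 = true := by decide +kernel

theorem rel14_1 : fixHalf data 5 [5,2,5,2] 12276 12276 = true := by decide +kernel

theorem rel14_2 : fixHalf data 5 [5,2,5,2] 24552 12276 = true := by decide +kernel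

theorem rel14_3 : fixHalf data 5 [5,2,5,2] 36828 12276 = true := by decide +kernel

theorem rel14_4 : fixHalf data 5 [5,2,5,2] 49104 12276 = true := by decide +kernel

theorem rel14_5 : fixHalf data 5 [5,2,5,2] 61380 12276 = true := by decide +kernel

theorem rel14_6 : fixHalf data 5 [5,2,5,2] 73656 12276 = true := by decide +kernel

theorem rel14_7 : fixHalf data 5 [5,2,5,2] 85932 12276 = true := by decide +kernel

theorem rel14_8 : fixHalf data 5 [5,2,5,2] 98208 12276 = true := by decide +kernel

theorem rel14_9 : fixHalf data 5 [5,2,5,2] 110484 12276 = true := by decide +kernel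


end

end Tab
end ON
end H93
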