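import Mathlib
import Cfsg.Agent.H93.ON.Tab.Data
import Cfsg.Agent.H93.CI.Index

/-!
A checked coset table (generated data).
-/

set_option autoImplicit false
set_option maxRecDepth 100000
set_option linter.all false
set_option Elab.async false

namespace H93
namespace ON
namespace Tab

open CosetI

noncomputable section

theorem tree_0 : treeOK data 0 12276 = true := by decide +kernel

theorem tree_1 : treeOK data 12276 12276 = true := by decide +kernel

theorem tree_2 : treeOK data 24552 12276 = true := by decide +kernel

theorem tree_3 : treeOK data 36828 12276 = true := by decide +kernel

theorem tree_4 : treeOK data 49104 12276 = true := by decide +kernel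

theorem tree_5 : treeOK data 61380 12276 = true := by decide +kernel

theorem tree_6 : treeOK data 73656 12276 = true := by decide +kernel

theorem tree_7 : treeOK data 85932 12276 = true := by decide +kernel

theorem tree_8 : treeOK data 98208 12276 = true := by decide +kernel

theorem tree_9 : treeOK data 110484 12276 = true := by decide +kernel


end

end Tab
end ON
end H93
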